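import Mathlib
import Groth.Agent.Unibranch.Components
import Groth.Agent.SteinConn.Unibranch

/-!
# Rational sections of unramified morphisms at geometrically unibranch points
-/

set_option autoImplicit false
set_option backward.isDefEq.respectTransparency false
set_option linter.style.haveILetI false

open CategoryTheory CategoryTheory.Limits AlgebraicGeometry Topology

universe u

namespace Groth.Agent.UnramSecLib

variable {X Y : Scheme.{u}}

/-- A section of an unramified morphism over an open is an open immersion. -/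
theorem isOpenImmersion_of_section (f : X ⟶ Y) [FormallyUnramified f] [LocallyOfFiniteType f]
    {U : Y.Opens} (u : (U : Scheme.{u}) ⟶ X) (hu : u ≫ f = U.ι) : IsOpenImmersion u := by
  haveI : Etale (u ≫ f) := by rw [hu]; infer_instance
  haveI : Etale u := Etale.of_comp u f
  haveI : Mono (u ≫ f) := by rw [hu]; infer_instance
  haveI : Mono u := mono_of_mono u f
  exact IsOpenImmersion.of_flat_of_mono u

/-- Near a geometrically unibranch point an unramified morphism with generically injective branch is an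
open immersion. -/
theorem exists_openImmersion_nbhd (f : X ⟶ Y) [IsIntegral Y] [IsSeparated f] [LocallyOfFiniteType f]
    [FormallyUnramified f] (x : X) (hY : CAlg2.IsGeomUnibranch (Y.presheaf.stalk (f x)))
    (Ω : X.Opens) [Mono (Ω.ι ≫ f)] (x' : X) (hx'Ω : x' ∈ Ω) (hx' : x' ⤳ x) (hx'η : f x' = genericPoint ↥Y) :
    ∃ T : X.Opens, x ∈ T ∧ IsOpenImmersion (T.ι ≫ f) ∧ x' ∈ T ∧ ∀ z ∈ T, f z = genericPoint ↥Y → z = x' := by
  obtain ⟨U₀, hxU₀, hU₀⟩ := Unibranch.exists_etale_nbhd f x hY ⟨x', hx', hx'η⟩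
    ⟨⊤, trivial, MorphismProperty.comp_mem @FormallyUnramified _ _ inferInstance inferInstance⟩
  haveI := hU₀
  have hx'U₀ : x' ∈ U₀ := hx'.mem_open U₀.2 hxU₀
  haveI := Unibranch.locallyQuasiFinite_of_etale (U₀.ι ≫ f)
  have hmax : ∀ ξ : (U₀ : Scheme.{u}), ξ ⤳ ⟨x', hx'U₀⟩ → ξ = ⟨x', hx'U₀⟩ :=
    Unibranch.max_of_map_eq_genericPoint (U₀.ι ≫ f) ⟨x', hx'U₀⟩ hx'η
  have hx'₀ : (⟨x', hx'U₀⟩ : (U₀ : Scheme.{u})) ⤳ ⟨x, hxU₀⟩ :=
    U₀.ι.isOpenEmbedding.isInducing.specializes_iff.1 (show U₀.ι ⟨x', hx'U₀⟩ ⤳ U₀.ι ⟨x, hxU₀⟩ from hx')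
  obtain ⟨S, hS, hSo, hxS⟩ := eventually_nhds_iff.mp
    (Unibranch.eventually_specializes_of_finite (U₀.ι ≫ f) (Unibranch.finite_minimalPrimes (U₀.ι ≫ f))
      ⟨x, hxU₀⟩ hY ⟨x', hx'U₀⟩
      hx'₀ hmax)
  let T : X.Opens := U₀.ι ''ᵁ ⟨S, hSo⟩
  have hTU₀ : T ≤ U₀ := by
    rintro _ ⟨s, -, rfl⟩
    exact s.2
  have hgen : ∀ z ∈ T, x' ⤳ z := by
    rintro _ ⟨s, hs, rfl⟩
    exact (hS s hs).map U₀.ι.continuous
  have honly : ∀ z ∈ T, f z = genericPoint ↥Y → z = x' := by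
    rintro _ ⟨s, hs, rfl⟩ hz
    exact congrArg (fun w => U₀.ι w)
      (Unibranch.max_of_map_eq_genericPoint (U₀.ι ≫ f) s hz _ (hS s hs)).symm
  have hxT : x ∈ T := ⟨⟨x, hxU₀⟩, hxS, rfl⟩
  have hx'T : x' ∈ T :=
    ⟨⟨x', hx'U₀⟩, hx'₀.mem_open hSo hxS, rfl⟩
  refine ⟨T, hxT, ?_, hx'T, honly⟩
  haveI : Etale (T.ι ≫ f) := by
    rw [← X.homOfLE_ι hTU₀, Category.assoc]
    infer_instance
  haveI : Surjective (pullback.diagonal (T.ι ≫ f)) := ⟨fun p => by
    let g := T.ι ≫ f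
    obtain ⟨q, hqp, hq⟩ := Flat.generalizingMap (pullback.fst g g)
      (a := p) (b := (⟨x', hx'T⟩ : (T : Scheme.{u})))
      ((T.ι.isOpenEmbedding.isInducing.specializes_iff).1 (hgen _ (pullback.fst g g p).2))
    have hq' : pullback.snd g g q = ⟨x', hx'T⟩ := by
      refine Subtype.ext (honly _ (pullback.snd g g q).2 ?_)
      have := congrArg (fun m => m q) (pullback.condition (f := g) (g := g))
      simp only [Scheme.Hom.comp_apply] at this
      exact this.symm.trans ((congrArg g hq).trans hx'η)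
    let e := (pullback g g).fromSpecResidueField q
    have hr : ∀ (m : pullback g g ⟶ (T : Scheme.{u})), m q = ⟨x', hx'T⟩ → Set.range (e ≫ m ≫ T.ι) ⊆ Set.range Ω.ι :=
      fun m hm => by
        rintro _ ⟨z, rfl⟩
        rw [Scheme.Opens.range_ι, Scheme.Hom.comp_apply, Scheme.Hom.comp_apply,
          Scheme.fromSpecResidueField_apply, hm]
        exact hx'Ω
    have heq : e ≫ pullback.fst g g = e ≫ pullback.snd g g := by
      rw [← cancel_mono T.ι, Category.assoc, Category.assoc,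
        ← IsOpenImmersion.lift_fac Ω.ι _ (hr _ hq), ← IsOpenImmersion.lift_fac Ω.ι _ (hr _ hq')]
      refine congrArg (fun m => m ≫ Ω.ι) ((cancel_mono (Ω.ι ≫ f)).1 ?_)
      rw [IsOpenImmersion.lift_fac_assoc, IsOpenImmersion.lift_fac_assoc]
      simp only [Category.assoc]
      exact congrArg (fun m => e ≫ m) pullback.condition
    have he : e = (e ≫ pullback.fst g g) ≫ pullback.diagonal g := by
      apply pullback.hom_ext <;> simp only [Category.assoc, pullback.diagonal_fst, pullback.diagonal_snd,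
        Category.comp_id]
      exact heq.symm
    have hqr : q ∈ Set.range (pullback.diagonal g) := by
      refine ⟨(e ≫ pullback.fst g g) (IsLocalRing.closedPoint _), ?_⟩
      rw [← Scheme.Hom.comp_apply, ← he]
      exact Scheme.fromSpecResidueField_apply q _
    exact hqp.mem_closed (pullback.diagonal g).isClosedEmbedding.isClosed_range hqr⟩
  haveI : IsIso (pullback.diagonal (T.ι ≫ f)) :=
    (isIso_iff_isOpenImmersion_and_surjective _).mpr ⟨inferInstance, inferInstance⟩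
  haveI : Mono (T.ι ≫ f) := (pullback.isIso_diagonal_iff _).1 inferInstance
  exact IsOpenImmersion.of_flat_of_mono _

/-- The stalk of a reduced scheme at a geometrically unibranch point has one minimal generalisation. -/
theorem exists_generic_at [IsReduced Y] (y : Y) (hy : CAlg2.IsGeomUnibranch (Y.presheaf.stalk y)) :
    ∃ η : Y, η ⤳ y ∧ ∀ y' : Y, y' ⤳ y → η ⤳ y' := by
  haveI : IsDomain (CAlg2.red (Y.presheaf.stalk y)) := hy.1.1
  haveI : IsDomain (Y.presheaf.stalk y) := by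
    have h : nilradical (Y.presheaf.stalk y) = ⊥ := nilradical_eq_zero _
    exact ((RingEquiv.quotientBot (Y.presheaf.stalk y)).symm.trans
      (Ideal.quotEquivOfEq h.symm)).toMulEquiv.isDomain _
  refine ⟨Y.fromSpecStalk y ⟨⊥, Ideal.isPrime_bot⟩, ?_, fun y' hy' => ?_⟩
  · exact (Scheme.range_fromSpecStalk (x := y)).le ⟨_, rfl⟩
  · obtain ⟨q, rfl⟩ : y' ∈ Set.range (Y.fromSpecStalk y) := (Scheme.range_fromSpecStalk (x := y)).ge hy'
    exact Specializes.map ((PrimeSpectrum.le_iff_specializes _ _).1 (bot_le : ⊥ ≤ q.asIdeal))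
      (Y.fromSpecStalk y).continuous

/-- A rational section extends to a geometrically unibranch point in the closure of its image. -/
theorem exists_extension [IsReduced Y]
    (hcomp : LocallyFinite (fun Z : ↥(irreducibleComponents ↥Y) => (Z : Set ↥Y)))
    (f : X ⟶ Y) [IsSeparated f] [LocallyOfFiniteType f] [FormallyUnramified f]
    (U : Y.Opens) (hU : Dense (U : Set ↥Y)) (u : (U : Scheme.{u}) ⟶ X) (hu : u ≫ f = U.ι)
    (x : X) (hy : CAlg2.IsGeomUnibranch (Y.presheaf.stalk (f x))) (hx : x ∈ closure (Set.range u)) :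
    ∃ (V : Y.Opens) (v : (V : Scheme.{u}) ⟶ X), f x ∈ V ∧ v ≫ f = V.ι ∧
      Y.homOfLE (inf_le_left : U ⊓ V ≤ U) ≫ u = Y.homOfLE (inf_le_right : U ⊓ V ≤ V) ≫ v := by
  haveI := isOpenImmersion_of_section f u hu
  obtain ⟨η, hη, hgen⟩ := exists_generic_at (f x) hy
  let W : Y.Opens := ⟨(⋃ Z : {Z : ↥(irreducibleComponents ↥Y) // f x ∉ (Z : Set ↥Y)}, (Z.1 : Set ↥Y))ᶜ,
    ((hcomp.comp_injective Subtype.val_injective).isClosed_iUnion
      fun Z => isClosed_of_mem_irreducibleComponents _ Z.1.2).isOpen_compl⟩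
  have hyW : f x ∈ W := fun h => by
    obtain ⟨Z, hZ⟩ := Set.mem_iUnion.1 h
    exact Z.2 hZ
  have hWη : ∀ w ∈ W, η ⤳ w := fun w hw => by
    have hC := irreducibleComponent_mem_irreducibleComponents w
    have hyC : f x ∈ irreducibleComponent w := by
      by_contra h
      exact hw (Set.mem_iUnion.2 ⟨⟨⟨_, hC⟩, h⟩, mem_irreducibleComponent⟩)
    obtain ⟨ζ, hζ⟩ := QuasiSober.sober hC.1 (isClosed_of_mem_irreducibleComponents _ hC)
    exact (hgen ζ (hζ.specializes hyC)).trans (hζ.specializes mem_irreducibleComponent)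
  have hηW : η ∈ W := hη.mem_open W.2 hyW
  have hηU : η ∈ U := by
    obtain ⟨w, hwW, hwU⟩ := hU.inter_open_nonempty _ W.2 ⟨_, hyW⟩
    exact (hWη w hwW).mem_open U.2 hwU
  have hirr : IsGenericPoint (⟨η, hηW⟩ : (W : Scheme.{u})) Set.univ :=
    Set.eq_univ_of_forall fun w => specializes_iff_mem_closure.1
      ((W.ι.isOpenEmbedding.isInducing.specializes_iff).1 (hWη _ w.2))
  haveI : IrreducibleSpace ↥(W : Scheme.{u}) := by
    haveI : Nonempty ↥(W : Scheme.{u}) := ⟨⟨η, hηW⟩⟩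
    exact { isPreirreducible_univ := hirr.isIrreducible.isPreirreducible, toNonempty := inferInstance }
  haveI : IsReduced (W : Scheme.{u}) := isReduced_of_isOpenImmersion W.ι
  haveI : IsIntegral (W : Scheme.{u}) := isIntegral_of_irreducibleSpace_of_isReduced _
  have hηgen : genericPoint ↥(W : Scheme.{u}) = ⟨η, hηW⟩ := (hirr.eq (genericPoint_spec ↥(W : Scheme.{u}))).symm
  let x' : X := u ⟨η, hηU⟩
  have hfx' : f x' = η := by
    show f (u ⟨η, hηU⟩) = η
    rw [← Scheme.Hom.comp_apply, hu]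
    rfl
  have hx' : x' ⤳ x := by
    rw [specializes_iff_forall_open]
    intro O hO hxO
    obtain ⟨_, ⟨hzO, hzW⟩, ⟨z, rfl⟩⟩ := mem_closure_iff.1 hx (O ∩ f ⁻¹ᵁ W) (hO.inter (f ⁻¹ᵁ W).2) ⟨hxO, hyW⟩
    have hfz : f (u z) = z.1 := by
      rw [← Scheme.Hom.comp_apply, hu]
      rfl
    refine Specializes.mem_open (Specializes.map ?_ u.continuous) hO hzO
    refine (U.ι.isOpenEmbedding.isInducing.specializes_iff).1 (hWη z.1 ?_)
    rw [← hfz]
    exact hzW
  let Ω : (↑(f ⁻¹ᵁ W) : Scheme.{u}).Opens := (f ⁻¹ᵁ W).ι ⁻¹ᵁ u.opensRange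
  haveI : Mono (Ω.ι ≫ (f ∣_ W)) := by
    haveI : Mono ((Ω.ι ≫ (f ∣_ W)) ≫ W.ι) := by
      have hr : Set.range (Ω.ι ≫ (f ⁻¹ᵁ W).ι) ⊆ Set.range u := by
        rintro _ ⟨z, rfl⟩
        exact z.2
      have e : (Ω.ι ≫ (f ∣_ W)) ≫ W.ι = IsOpenImmersion.lift u _ hr ≫ U.ι := by
        rw [← hu, IsOpenImmersion.lift_fac_assoc, Category.assoc, morphismRestrict_ι, Category.assoc]
      haveI : Mono (IsOpenImmersion.lift u _ hr ≫ u) := by
        rw [IsOpenImmersion.lift_fac]; infer_instance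
      haveI := mono_of_mono (IsOpenImmersion.lift u _ hr) u
      rw [e]; infer_instance
    exact mono_of_mono _ W.ι
  have hW' : (f ∣_ W) ⟨x, hyW⟩ = ⟨f x, hyW⟩ := W.ι.isOpenEmbedding.injective (by
    rw [← Scheme.Hom.comp_apply, morphismRestrict_ι]
    rfl)
  have hx'W : x' ∈ f ⁻¹ᵁ W := by
    show f x' ∈ W
    rw [hfx']; exact hηW
  haveI : FormallyUnramified (f ∣_ W) := IsZariskiLocalAtTarget.restrict ‹_› W
  obtain ⟨T, hxT, hT, hx'T, honly⟩ := exists_openImmersion_nbhd (f ∣_ W) ⟨x, hyW⟩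
    (by
      rw [hW']
      exact SteinConn.isGeomUnibranch_of_ringEquiv (W.stalkIso ⟨f x, hyW⟩).commRingCatIsoToRingEquiv.symm hy)
    Ω ⟨x', hx'W⟩ ⟨⟨η, hηU⟩, rfl⟩ (((f ⁻¹ᵁ W).ι.isOpenEmbedding.isInducing.specializes_iff).1 hx')
    (by
      rw [hηgen]
      refine W.ι.isOpenEmbedding.injective ?_
      rw [← Scheme.Hom.comp_apply, morphismRestrict_ι]
      exact hfx')
  haveI := hT
  let j : (T : Scheme.{u}) ⟶ X := T.ι ≫ (f ⁻¹ᵁ W).ι
  let ρ : (T : Scheme.{u}) ⟶ Y := (T.ι ≫ (f ∣_ W)) ≫ W.ι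
  have hρ : j ≫ f = ρ := by simp only [j, ρ, Category.assoc, morphismRestrict_ι]
  let V : Y.Opens := ρ.opensRange
  have hl : Set.range V.ι ⊆ Set.range ρ := by rw [Scheme.Opens.range_ι]; exact le_rfl
  let v : (V : Scheme.{u}) ⟶ X := IsOpenImmersion.lift ρ V.ι hl ≫ j
  have hv : v ≫ f = V.ι := by rw [Category.assoc, hρ, IsOpenImmersion.lift_fac]
  refine ⟨V, v, ⟨⟨⟨x, hyW⟩, hxT⟩, ?_⟩, hv, ?_⟩
  · show ρ _ = f x
    rw [← hρ]; rfl
  let a := Y.homOfLE (inf_le_left : U ⊓ V ≤ U) ≫ u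
  let b := Y.homOfLE (inf_le_right : U ⊓ V ≤ V) ≫ v
  let O' : (↑(U ⊓ V) : Scheme.{u}).Opens := b ⁻¹ᵁ u.opensRange
  haveI : IsReduced (↑(U ⊓ V) : Scheme.{u}) := isReduced_of_isOpenImmersion (U ⊓ V).ι
  have hab : a ≫ f = b ≫ f := by simp only [a, b, Category.assoc, hu, hv, Scheme.homOfLE_ι]
  haveI : IsDominant O'.ι := ⟨fun o => by
    obtain ⟨s, hs⟩ : (o.1 : Y) ∈ Set.range ρ := o.2.2
    have hoW : (o.1 : Y) ∈ W := by
      rw [← hs]
      exact ((T.ι ≫ (f ∣_ W)) s).2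
    have hηV : η ∈ V := (hWη _ hoW).mem_open V.2 o.2.2
    let e : (↑(U ⊓ V) : Scheme.{u}) := ⟨η, hηU, hηV⟩
    have he : b e ∈ u.opensRange := by
      refine ⟨⟨η, hηU⟩, ?_⟩
      let t := IsOpenImmersion.lift ρ V.ι hl (Y.homOfLE (inf_le_right : U ⊓ V ≤ V) e)
      have ht : ρ t = η := by
        show ρ (IsOpenImmersion.lift ρ V.ι hl _) = η
        rw [← Scheme.Hom.comp_apply, IsOpenImmersion.lift_fac]
        simp only [← Scheme.Hom.comp_apply, Scheme.homOfLE_ι]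
        rfl
      have := honly (T.ι t) t.2 (W.ι.isOpenEmbedding.injective (ht.trans (congrArg W.ι hηgen).symm))
      exact (congrArg (f ⁻¹ᵁ W).ι this).symm
    rw [Scheme.Opens.range_ι]
    refine closure_mono (Set.singleton_subset_iff.2 (show e ∈ (O' : Set _) from he)) ?_
    exact specializes_iff_mem_closure.1 (((U ⊓ V).ι.isOpenEmbedding.isInducing.specializes_iff).1 (hWη _ hoW))⟩
  refine ext_of_isDominant_of_isSeparated f hab O'.ι ?_
  have hb' : Set.range (O'.ι ≫ b) ⊆ Set.range u := by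
    rintro _ ⟨z, rfl⟩
    exact z.2
  rw [← IsOpenImmersion.lift_fac u (O'.ι ≫ b) hb']
  show O'.ι ≫ Y.homOfLE (inf_le_left : U ⊓ V ≤ U) ≫ u = _
  rw [← Category.assoc]
  refine congrArg (fun m => m ≫ u) ((cancel_mono U.ι).1 ?_)
  have := congrArg (fun m => m ≫ f) (IsOpenImmersion.lift_fac u (O'.ι ≫ b) hb')
  simp only [Category.assoc, hu] at this
  rw [Category.assoc, Scheme.homOfLE_ι, this]
  simp only [b, Category.assoc, hv, Scheme.homOfLE_ι]

end Groth.Agent.UnramSecLib
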